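import Groth.Prelude.Def_EtBase
import Groth.Prelude.Def_EtCore
import Mathlib.AlgebraicGeometry.Morphisms.UniversallyOpen
/-!
Sheaf condition for a Galois covering of a scheme.
-/
set_option autoImplicit false
set_option linter.style.haveILetI false
universe u w
open CategoryTheory CategoryTheory.Limits AlgebraicGeometry Opposite

namespace Groth.Agent.GaloisCover

variable {X : Scheme.{u}} {Y : X.Etale} {G : Type u} [Group G]

/-- Jointly surjective legs of a colimit cofan in the small etale site. -/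
theorem iUnion_range {ι : Type u} {W : X.Etale} {Z : ι → X.Etale} (f : ∀ i, Z i ⟶ W)
    (h : IsColimit (Cofan.mk W f)) : ⋃ i, Set.range (f i).left = .univ := by
  haveI : ∀ i, Etale (f i).left := fun i => by
    haveI : Etale ((f i).left ≫ W.hom) := by
      have e : (f i).left ≫ W.hom = (Z i).hom := MorphismProperty.Over.w (f i)
      rw [e]; exact (Z i).prop
    haveI : Etale W.hom := W.prop
    exact Etale.of_comp (f i).left W.hom
  let U : W.left.Opens := ⟨⋃ i, Set.range (f i).left, isOpen_iUnion fun i => (f i).left.isOpenMap.isOpen_range⟩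
  haveI : Etale W.hom := W.prop
  haveI hU : IsOpenImmersion U.ι := inferInstance
  have hr : ∀ i, Set.range (f i).left ⊆ Set.range U.ι := fun i => by
    rw [Scheme.Opens.range_ι]; exact Set.subset_iUnion (fun i => Set.range (f i).left) i
  let lft : ∀ i, (Z i).left ⟶ (U : Scheme.{u}) := fun i => IsOpenImmersion.lift U.ι (f i).left (hr i)
  have hlft : ∀ i, lft i ≫ U.ι = (f i).left := fun i => IsOpenImmersion.lift_fac U.ι _ (hr i)
  let U' : X.Etale := MorphismProperty.Over.mk ⊤ (U.ι ≫ W.hom) (inferInstance : Etale (U.ι ≫ W.hom))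
  let j : U' ⟶ W := MorphismProperty.Over.homMk U.ι rfl
  let l : ∀ i, Z i ⟶ U' := fun i => MorphismProperty.Over.homMk (lft i)
    ((Category.assoc (lft i) U.ι W.hom).symm.trans ((congrArg (· ≫ W.hom) (hlft i)).trans (MorphismProperty.Over.w (f i))))
  have hl : ∀ i, l i ≫ j = f i := fun i => MorphismProperty.Over.Hom.ext ((MorphismProperty.Comma.comp_left _ _).trans (hlft i))
  obtain ⟨r, hr'⟩ : ∃ r : W ⟶ U', ∀ i, f i ≫ r = l i :=
    ⟨h.desc (Cofan.mk U' l), fun i => h.fac (Cofan.mk U' l) ⟨i⟩⟩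
  have h1 : r ≫ j = 𝟙 W := h.hom_ext fun ⟨i⟩ => by
    show f i ≫ r ≫ j = f i ≫ 𝟙 W
    rw [← Category.assoc, hr', hl, Category.comp_id]
  refine Set.eq_univ_of_forall fun y => ?_
  have h2 : y ∈ Set.range U.ι := ⟨r.left y, congrArg (fun m : W ⟶ W => m.left y) h1⟩
  rwa [Scheme.Opens.range_ι] at h2

variable (σ : G →* Aut Y)

theorem isSheafFor_iff (P : X.Etaleᵒᵖ ⥤ Type w)
    (hP : Function.Injective (fun s : P.obj (op (Y ⨯ Y)) => fun g : G => P.map (prod.lift (𝟙 Y) (σ g).hom).op s)) :
    Presieve.IsSheafFor P (Presieve.singleton ((EtCore.topIsTerminal X).from Y)) ↔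
      (Function.Injective (P.map ((EtCore.topIsTerminal X).from Y).op) ∧
        Set.range (P.map ((EtCore.topIsTerminal X).from Y).op) = {s | ∀ g : G, P.map (σ g).hom.op s = s}) := by
  set π := (EtCore.topIsTerminal X).from Y
  have hπ : ∀ g : G, (σ g).hom ≫ π = π := fun g => (EtCore.topIsTerminal X).hom_ext _ _
  have hinv : ∀ y g, P.map (σ g).hom.op (P.map π.op y) = P.map π.op y := fun y g => by
    rw [← FunctorToTypes.map_comp_apply, ← op_comp, hπ]
  have compat : ∀ s : P.obj (op Y), (∀ g : G, P.map (σ g).hom.op s = s) ↔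
      ∀ {Z : X.Etale} (p₁ p₂ : Z ⟶ Y), p₁ ≫ π = p₂ ≫ π → P.map p₁.op s = P.map p₂.op s := by
    intro s
    refine ⟨fun h Z p₁ p₂ _ => ?_, fun h g => ?_⟩
    · have e : P.map (prod.fst : Y ⨯ Y ⟶ Y).op s = P.map (prod.snd : Y ⨯ Y ⟶ Y).op s := hP <| funext fun g => by
        show P.map _ (P.map _ s) = P.map _ (P.map _ s)
        rw [← FunctorToTypes.map_comp_apply, ← FunctorToTypes.map_comp_apply, ← op_comp, ← op_comp,
          prod.lift_fst, prod.lift_snd, h g]
        simp
      have e1 := congrArg (P.map (prod.lift p₁ p₂).op) e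
      rw [← FunctorToTypes.map_comp_apply, ← FunctorToTypes.map_comp_apply, ← op_comp, ← op_comp,
        prod.lift_fst, prod.lift_snd] at e1
      exact e1
    · simpa using h (σ g).hom (𝟙 Y) ((EtCore.topIsTerminal X).hom_ext _ _)
  rw [Presieve.isSheafFor_singleton]
  constructor
  · intro h
    refine ⟨fun a b hab => (h (P.map π.op a) ((compat _).1 (hinv a))).unique rfl hab.symm, Set.ext fun s => ⟨?_, fun hs => ?_⟩⟩
    · rintro ⟨y, rfl⟩; exact hinv y
    · exact (h s ((compat s).1 hs)).exists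
  · rintro ⟨hinj, hrange⟩ s hs
    obtain ⟨y, hy⟩ : s ∈ Set.range (P.map π.op) := hrange ▸ (compat s).2 hs
    exact ⟨y, hy, fun y' hy' => hinj (hy'.trans hy.symm)⟩

theorem sect_top (X : Scheme.{u}) (Y : X.Etale) (hY : Function.Surjective Y.hom.base)
    {G : Type u} [Group G] (σ : G →* Aut Y)
    (hgal : Nonempty (IsColimit (Cofan.mk (Y ⨯ Y) (fun g : G => prod.lift (𝟙 Y) (σ g).hom))))
    (F : EtCoh.Ab X) :
    Function.Injective (F.obj.map ((EtCore.topIsTerminal X).from Y).op) ∧
      Set.range (F.obj.map ((EtCore.topIsTerminal X).from Y).op) =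
        {s : EtCoh.sect F Y | ∀ g : G, F.obj.map (σ g).hom.op s = s} := by
  obtain ⟨hc⟩ := hgal
  let P : X.Etaleᵒᵖ ⥤ Type (u + 1) := F.obj ⋙ forget AddCommGrpCat.{u + 1}
  have hsh : Presieve.IsSheaf X.smallEtaleTopology P :=
    (isSheaf_iff_isSheaf_of_type _ _).1 ((sheafCompose X.smallEtaleTopology (forget AddCommGrpCat.{u + 1})).obj F).property
  refine (isSheafFor_iff σ P ?_).1 ?_
  · intro s t hst
    have hmem : Sieve.ofArrows _ (fun g : G => prod.lift (𝟙 Y) (σ g).hom) ∈ X.smallEtaleTopology (Y ⨯ Y) := by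
      rw [Scheme.ofArrows_mem_smallEtaleTopology_iff]
      exact iUnion_range _ hc
    refine ((Presieve.isSheafFor_iff_generate _).2 (hsh _ hmem)).isSeparatedFor.ext ?_
    rintro Z _ ⟨g⟩
    exact congrFun hst g
  · have hmem : Sieve.ofArrows (fun _ : PUnit.{u+1} => Y) (fun _ => (EtCore.topIsTerminal X).from Y) ∈
        X.smallEtaleTopology (EtCoh.top X) := by
      rw [Scheme.ofArrows_mem_smallEtaleTopology_iff]
      refine Set.eq_univ_of_forall fun x => ?_
      obtain ⟨y, hy⟩ := hY x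
      refine Set.mem_iUnion.2 ⟨⟨⟩, y, ?_⟩
      have hw := MorphismProperty.Over.w ((EtCore.topIsTerminal X).from Y)
      rw [← hy, ← hw]
      rfl
    have h := (Presieve.isSheafFor_iff_generate _).2 (hsh _ hmem)
    rwa [Presieve.ofArrows_pUnit] at h

end Groth.Agent.GaloisCover
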